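import Groth.Agent.Growth14.Fam.Step
import Groth.Agent.EGA43.Chevalley.DimBounds
import Groth.Agent.RelVALib.ChowPn
import Groth.Agent.Props12.KerReduced

/-!
# Cohomological growth of powers of an invertible module, uniformly in a projective family
-/

set_option autoImplicit false
set_option linter.all false
set_option backward.isDefEq.respectTransparency.types false

universe u

open CategoryTheory CategoryTheory.Limits AlgebraicGeometry Opposite TopologicalSpace
open Groth.Agent.Coherent Groth.Agent.PicLib Groth.Agent.AmpleLib Groth.Agent.Coherent.CohBC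

noncomputable section

namespace Groth.Agent.Growth14.Fam

theorem isInvertible_twist_pullback {X' X : Scheme.{u}} (g : X' ⟶ X) (F : X.Modules) {L : X.Modules}
    (hL : PicF.IsInvertible L) (m : ℕ) :
    Nonempty ((Scheme.Modules.pullback g).obj (tw L F m) ≅
      tw ((Scheme.Modules.pullback g).obj L) ((Scheme.Modules.pullback g).obj F) m) := by
  obtain ⟨e', -⟩ := AmpleLib.exists_pullPowIso g hL m
  exact ⟨DCat.PullTensor.pullTensorIso g _ _ ≪≫ AmpleLib.tensorIso (Iso.refl _) e'⟩

variable {T XX : Scheme.{u}} [IsNoetherian T] (f : XX ⟶ T) [IsProper f]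

theorem subsingleton_empty_dim {Z : Type u} [TopologicalSpace Z] [IsEmpty Z] {d : ℕ} :
    topologicalKrullDim Z < (d : WithBot ℕ∞) := by
  rw [show topologicalKrullDim Z = ⊥ from Order.krullDim_eq_bot_iff.2 ⟨fun s => s.isIrreducible.nonempty.elim fun z _ => IsEmpty.false z⟩]
  exact WithBot.bot_lt_coe _

/-- The bound on the points of a closed set, all fibre dimensions and all powers. -/
def Bounded (F L : XX.Modules) (i : ℕ) (S : Set T) : Prop :=
  ∃ C : ℕ, ∀ t ∈ S, ∀ e : ℕ, topologicalKrullDim ↥(f.fiber t) = e → ∀ m : ℕ, 1 ≤ m →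
    CohIII.fiberRank f (tw L F m) i t ≤ C * m ^ e

theorem Bounded.union {F L : XX.Modules} {i : ℕ} {S S' : Set T} (h : Bounded f F L i S) (h' : Bounded f F L i S') :
    Bounded f F L i (S ∪ S') := by
  obtain ⟨C, hC⟩ := h
  obtain ⟨C', hC'⟩ := h'
  refine ⟨C + C', fun t ht e he m hm => ?_⟩
  rw [add_mul]
  rcases ht with h | h
  · exact (hC t h e he m hm).trans (Nat.le_add_right _ _)
  · exact (hC' t h e he m hm).trans (Nat.le_add_left _ _)

theorem bounded_piece {r : ℕ} (ι : XX ⟶ CohB1.ProjSpaceOver r T) [IsClosedImmersion ι]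
    (hι : ι ≫ CohB1.ProjSpaceOver.toBase r T = f) {F L : XX.Modules} (hF : Coh.IsCoh F) (hL : PicF.IsInvertible L)
    (i : ℕ) (Z : Closeds T) (hZ : IsIrreducible (Z : Set T)) :
    ∃ O : Set T, IsOpen O ∧ (O ∩ Z).Nonempty ∧ Bounded f F L i (O ∩ Z) := by
  obtain ⟨η, hη⟩ := QuasiSober.sober hZ Z.isClosed
  have hηZ : η ∈ (Z : Set T) := hη ▸ subset_closure (Set.mem_singleton η)
  obtain ⟨V, hV, hηV, -⟩ := exists_isAffineOpen_mem_and_subset (x := η) (U := (⊤ : T.Opens)) trivial
  let I := Scheme.IdealSheafData.vanishingIdeal Z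
  let c := I.subschemeι
  have hrange : Set.range c.base = (Z : Set T) := by
    rw [Scheme.IdealSheafData.range_subschemeι, Scheme.IdealSheafData.coe_support_vanishingIdeal]
  let W : Scheme.{u} := (c ⁻¹ᵁ V).toScheme
  let j : W ⟶ T := (c ⁻¹ᵁ V).ι ≫ c
  haveI : IsAffine W := hV.preimage c
  have hj : ∀ w : W, j w ∈ (Z : Set T) := fun w => hrange ▸ ⟨_, rfl⟩
  haveI : IrreducibleSpace I.subscheme := by
    haveI : PreirreducibleSpace I.subscheme := ⟨fun u v hu hv ⟨a, _, ha⟩ ⟨b, _, hb⟩ => by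
      obtain ⟨u', hu', rfl⟩ := c.isEmbedding.toIsInducing.isOpen_iff.1 hu
      obtain ⟨v', hv', rfl⟩ := c.isEmbedding.toIsInducing.isOpen_iff.1 hv
      obtain ⟨x, hxZ, hx⟩ := hZ.isPreirreducible u' v' hu' hv' ⟨c a, hrange ▸ ⟨a, rfl⟩, ha⟩ ⟨c b, hrange ▸ ⟨b, rfl⟩, hb⟩
      obtain ⟨y, rfl⟩ : x ∈ Set.range c.base := hrange ▸ hxZ
      exact ⟨y, trivial, hx⟩⟩
    haveI : Nonempty I.subscheme := by
      obtain ⟨z, hz⟩ : η ∈ Set.range c.base := hrange ▸ hηZ
      exact ⟨z⟩
    exact { toNonempty := ‹_› }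
  obtain ⟨z, hz⟩ : η ∈ Set.range c.base := hrange ▸ hηZ
  haveI : Nonempty (c ⁻¹ᵁ V) := ⟨⟨z, show c z ∈ V by rw [show c z = η from hz]; exact hηV⟩⟩
  haveI : IsReduced I.subscheme := Props12.isReduced_subscheme_vanishingIdeal Z
  haveI : IsIntegral I.subscheme := isIntegral_of_irreducibleSpace_of_isReduced _
  haveI : IsIntegral W := isIntegral_of_isOpenImmersion (c ⁻¹ᵁ V).ι
  haveI : IsLocallyNoetherian W := LocallyOfFiniteType.isLocallyNoetherian j
  haveI : IsNoetherian W := {}
  have hjη : j (genericPoint W) = η := by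
    obtain ⟨w₀, hw₀⟩ : ∃ w₀ : W, j w₀ = η := ⟨⟨z, show c z ∈ V by rw [show c z = η from hz]; exact hηV⟩, hz⟩
    have h : η ⤳ j (genericPoint W) := specializes_iff_mem_closure.2 (hη ▸ hj _)
    have h' := (genericPoint_specializes w₀).map j.continuous
    rw [hw₀] at h'
    exact (h'.antisymm h).eq
  -- the family over `W`
  let g := pullback.fst f j
  let f' := pullback.snd f j
  have sq : IsPullback g f' f j := IsPullback.of_hasPullback f j
  haveI : IsProper f' := MorphismProperty.of_isPullback (P := @IsProper) sq inferInstance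
  haveI : IsImmersion g := MorphismProperty.of_isPullback (P := @IsImmersion) sq.flip inferInstance
  -- an ample module
  haveI : QuasiCompact (ι ≫ CohB1.ProjSpaceOver.toBase r T) := by rw [hι]; infer_instance
  have hamp := CohExch.isAmple_restrict_twist r ι hV
  let Q : XX.Opens := (ι ≫ CohB1.ProjSpaceOver.toBase r T) ⁻¹ᵁ V
  haveI : CompactSpace ↥(pullback f j) := QuasiCompact.compactSpace_of_compactSpace f'
  have hA := AmpleLib.isAmple_pullback_of_range_subset (L := (Scheme.Modules.pullback ι).obj (Twist.twistOver r T 1)) g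
    g.isEmbedding Q (by
      rintro _ ⟨x, rfl⟩
      show (ι ≫ CohB1.ProjSpaceOver.toBase r T) (g x) ∈ V
      rw [← Scheme.Hom.comp_apply, show g ≫ ι ≫ CohB1.ProjSpaceOver.toBase r T = f' ≫ j by rw [hι]; exact sq.w]
      exact (f' x).2)
    (AmpleLib.isAmple_of_iso (restrictIsoPullback _ _) hamp)
  let F' := (Scheme.Modules.pullback g).obj F
  let L' := (Scheme.Modules.pullback g).obj L
  haveI : IsLocallyNoetherian (pullback f j) := LocallyOfFiniteType.isLocallyNoetherian f'
  haveI : IsLocallyNoetherian XX := LocallyOfFiniteType.isLocallyNoetherian f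
  have hF' : Coh.IsCoh F' := ZClosLib.isCoh_pullback g F hF
  obtain ⟨D, hD⟩ := EGA43.Chevalley.exists_fiber_dim_le f
  -- the dimension of the generic fibre
  have hdim : ∃ e₀ : ℕ, topologicalKrullDim ((f'.fiberι (genericPoint W)).base ⁻¹' CohB1.support F') <
      ((e₀ + 1 : ℕ) : WithBot ℕ∞) ∧ ∀ t ∈ (Z : Set T), ∀ e : ℕ, topologicalKrullDim ↥(f.fiber t) = e → e₀ ≤ e := by
    have hle : topologicalKrullDim ((f'.fiberι (genericPoint W)).base ⁻¹' CohB1.support F') ≤
        topologicalKrullDim ↥(f.fiber η) := by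
      have hin : Topology.IsInducing (fun x : f'.fiber (genericPoint W) => (⟨g (f'.fiberι (genericPoint W) x), by
          show f (g (f'.fiberι _ x)) = η
          rw [← Scheme.Hom.comp_apply, sq.w, Scheme.Hom.comp_apply,
            show f' (f'.fiberι _ x) = genericPoint W from (f'.fiberHomeo _ x).2]
          exact hjη⟩ : f ⁻¹' {η})) := by
        refine Topology.IsInducing.of_comp (Continuous.subtype_mk (g.continuous.comp (f'.fiberι _).continuous) _)
          continuous_subtype_val ?_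
        exact g.isEmbedding.toIsInducing.comp (f'.fiberι _).isEmbedding.toIsInducing
      refine (Topology.IsInducing.subtypeVal.topologicalKrullDim_le).trans ?_
      exact ((f.fiberHomeo η).symm.isEmbedding.toIsInducing.comp hin).topologicalKrullDim_le
    obtain he | ⟨e₀, he⟩ : topologicalKrullDim ↥(f.fiber η) = ⊥ ∨ ∃ n : ℕ, topologicalKrullDim ↥(f.fiber η) = n := by
      have h := hD η
      generalize topologicalKrullDim ↥(f.fiber η) = x at h ⊢
      match x, h with
      | ⊥, _ => exact Or.inl rfl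
      | ((a : ℕ∞) : WithBot ℕ∞), h =>
        have ha : a ≤ D := WithBot.coe_le_coe.1 h
        obtain ⟨n, rfl⟩ := WithTop.ne_top_iff_exists.1 (ne_top_of_le_ne_top (ENat.coe_ne_top D) ha)
        exact Or.inr ⟨n, rfl⟩
    · refine ⟨0, lt_of_le_of_lt hle (he ▸ WithBot.bot_lt_coe _), fun t _ e _ => Nat.zero_le e⟩
    · refine ⟨e₀, lt_of_le_of_lt hle (he ▸ (by exact_mod_cast Nat.lt_succ_self e₀)), fun t ht e het => ?_⟩
      have hcl := EGA43.Chevalley.isClosed_setOf_le_fiber_dim f f.isClosedMap e₀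
      have : t ∈ {y : T | (e₀ : WithBot ℕ∞) ≤ topologicalKrullDim ↥(f.fiber y)} :=
        hcl.closure_subset_iff.2 (Set.singleton_subset_iff.2 (show _ ≤ _ from he.ge)) (hη.symm ▸ ht)
      simp only [Set.mem_setOf_eq, het] at this
      exact_mod_cast this
  obtain ⟨e₀, hd, he₀⟩ := hdim
  obtain ⟨U, C, hηU, -, hC⟩ := exists_open_bound f' hA (PicLoc.isInvertible_pullback g hL) (e₀ + 1) F' hF' hd i
  obtain ⟨U', hU', hUU'⟩ := j.isEmbedding.toIsInducing.isOpen_iff.1 U.2
  refine ⟨U' ∩ (V : Set T), hU'.inter V.2, ⟨η, ⟨?_, hηV⟩, hηZ⟩, C, ?_⟩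
  · have : genericPoint W ∈ j.base ⁻¹' U' := by rw [hUU']; exact hηU
    exact hjη ▸ this
  rintro t ⟨⟨htU, htV⟩, htZ⟩ e he m hm
  obtain ⟨y, rfl⟩ : t ∈ Set.range c.base := hrange ▸ htZ
  let w : W := ⟨y, htV⟩
  have hw : w ∈ U := by
    exact (Set.ext_iff.1 hUU' w).1 htU
  have h := hC w hw m hm
  obtain ⟨e1⟩ := isInvertible_twist_pullback g F hL m
  rw [← fiberRank_congr f' e1 i w] at h
  haveI := (EulerLib.isCoh_twist (isInvertible_tensorPow hL m) hF).1
  rw [fiberRank_pullback sq (tw L F m) i w] at h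
  refine le_trans h (Nat.mul_le_mul_left _ (Nat.pow_le_pow_right (by omega) ?_))
  simpa using he₀ _ htZ e he

theorem bounded_all {r : ℕ} (ι : XX ⟶ CohB1.ProjSpaceOver r T) [IsClosedImmersion ι]
    (hι : ι ≫ CohB1.ProjSpaceOver.toBase r T = f) {F L : XX.Modules} (hF : Coh.IsCoh F) (hL : PicF.IsInvertible L)
    (i : ℕ) (Z : Closeds T) : Bounded f F L i Z := by
  induction Z using WellFoundedLT.induction with
  | _ Z ih =>
    by_cases hne : (Z : Set T).Nonempty
    · by_cases hirr : IsIrreducible (Z : Set T)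
      · obtain ⟨O, hO, hne', hb⟩ := bounded_piece f ι hι hF hL i Z hirr
        let Z' : Closeds T := ⟨(Z : Set T) ∩ Oᶜ, Z.isClosed.inter hO.isClosed_compl⟩
        have hlt : Z' < Z := by
          refine lt_of_le_of_ne (fun x hx => hx.1) fun h => ?_
          obtain ⟨x, hxO, hxZ⟩ := hne'
          exact (h ▸ hxZ : x ∈ Z').2 hxO
        have := Bounded.union f hb (ih Z' hlt)
        convert this using 1
        ext x
        by_cases hx : x ∈ O <;> simp [Z', hx]
      · have hpre : ¬ IsPreirreducible (Z : Set T) := fun h => hirr ⟨hne, h⟩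
        simp only [isPreirreducible_iff_isClosed_union_isClosed, not_forall, not_or] at hpre
        obtain ⟨A, B, hA, hB, hcov, hnA, hnB⟩ := hpre
        let ZA : Closeds T := ⟨(Z : Set T) ∩ A, Z.isClosed.inter hA⟩
        let ZB : Closeds T := ⟨(Z : Set T) ∩ B, Z.isClosed.inter hB⟩
        have hlA : ZA < Z := lt_of_le_of_ne (fun x hx => hx.1) fun h => hnA fun x hx => (h ▸ hx : x ∈ ZA).2
        have hlB : ZB < Z := lt_of_le_of_ne (fun x hx => hx.1) fun h => hnB fun x hx => (h ▸ hx : x ∈ ZB).2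
        have := Bounded.union f (ih ZA hlA) (ih ZB hlB)
        convert this using 1
        ext x
        refine ⟨fun hx => (hcov hx).imp (⟨hx, ·⟩) (⟨hx, ·⟩), fun hx => hx.elim (·.1) (·.1)⟩
    · exact ⟨0, fun t ht => absurd ⟨t, ht⟩ hne⟩

/-- The uniform bound. -/
theorem exists_uniform_bound (r : ℕ) (ι : XX ⟶ CohB1.ProjSpaceOver r T) [IsClosedImmersion ι]
    (hι : ι ≫ CohB1.ProjSpaceOver.toBase r T = f)
    (F : XX.Modules) (hF : Coh.IsCoh F) (L : XX.Modules) (hL : PicF.IsInvertible L) :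
    ∃ C : ℝ, ∀ (t : T) (e : ℕ), topologicalKrullDim ↥(f.fiber t) = e → ∀ (m : ℕ), 1 ≤ m → ∀ i : ℕ,
      (CohIII.fiberRank f (CohB1.tensorMod F (CohB1.tensorPow L m)) i t : ℝ) ≤ C * (m : ℝ) ^ e := by
  obtain ⟨D, hD⟩ := EGA43.Chevalley.exists_fiber_dim_le f
  choose C hC using fun i => bounded_all f ι hι hF hL i ⊤
  refine ⟨((∑ i ∈ Finset.range (D + 1), C i : ℕ) : ℝ), fun t e he m hm i => ?_⟩
  suffices h : CohIII.fiberRank f (CohB1.tensorMod F (CohB1.tensorPow L m)) i t ≤
      (∑ i ∈ Finset.range (D + 1), C i) * m ^ e by exact_mod_cast h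
  by_cases hi : i ≤ D
  · refine (hC i t trivial e he m hm).trans (Nat.mul_le_mul_right _ ?_)
    exact Finset.single_le_sum (f := C) (fun _ _ => Nat.zero_le _) (Finset.mem_range.2 (by omega))
  · haveI : IsLocallyNoetherian XX := LocallyOfFiniteType.isLocallyNoetherian f
    haveI : IsProper (f.fiberToSpecResidueField t) :=
      MorphismProperty.of_isPullback (P := @IsProper) (IsPullback.of_hasPullback f _) inferInstance
    haveI : IsLocallyNoetherian (f.fiber t) := LocallyOfFiniteType.isLocallyNoetherian (f.fiberToSpecResidueField t)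
    haveI : CompactSpace (f.fiber t) := QuasiCompact.compactSpace_of_compactSpace (f.fiberToSpecResidueField t)
    haveI : IsNoetherian (f.fiber t) := {}
    haveI : (f.fiber t).IsSeparated := ⟨by
      rw [show terminal.from (f.fiber t) = f.fiberToSpecResidueField t ≫ terminal.from _ from terminal.hom_ext _ _]
      infer_instance⟩
    haveI : Coh.IsQCoh (CohIII.fiberMod f (CohB1.tensorMod F (CohB1.tensorPow L m)) t) :=
      haveI := (EulerLib.isCoh_twist (isInvertible_tensorPow hL m) hF).1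
      EGA43.InjFibre.isQCoh_pullback _ _
    haveI : Subsingleton (CohIII.fiberH f (CohB1.tensorMod F (CohB1.tensorPow L m)) t i) :=
      EulerLib.subsingleton_HH_of_dim _ (hD t) (Nat.lt_of_not_le hi)
    exact le_of_eq_of_le Module.finrank_zero_of_subsingleton (Nat.zero_le _)

end Groth.Agent.Growth14.Fam
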