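import Groth.Agent.DQCoh.FlatAdm17
import Groth.Agent.Coherent.CohBC.UniformVanish
import Groth.Agent.Growth14.Bounds
import Groth.Agent.CycLib28.PB.Ops.LocFree

/-!
# Fibre ranks in short exact sequences and boundedness over an affine open
-/

set_option autoImplicit false
set_option linter.all false
set_option backward.isDefEq.respectTransparency.types false

universe u

open CategoryTheory CategoryTheory.Limits AlgebraicGeometry Opposite
open Groth.Agent.Coherent Groth.Agent.Coherent.CohBC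

noncomputable section

namespace Groth.Agent.Growth14.Fam

section affine

variable {A : Type u} [CommRing A] [IsNoetherianRing A] {X : Scheme.{u}} [X.Over (Spec (CommRingCat.of A))]
  [IsProper (X ↘ Spec (CommRingCat.of A))]

theorem exists_bound_affine {G : X.Modules} (hG : Coh.IsCoh G)
    (hfl : FlatMod.IsFlatOver (X ↘ Spec (CommRingCat.of A)) G) (i : ℕ) :
    ∃ C : ℕ, ∀ y, CohIII.fiberRank (X ↘ Spec (CommRingCat.of A)) G i y ≤ C := by
  obtain ⟨D⟩ := nonempty_perfData G hG hfl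
  haveI hff := D.finite_free_P (-(i : ℤ))
  haveI : Module.Free A (D.P.X (-(i : ℤ))) := hff.2
  haveI : Module.Finite A (D.P.X (-(i : ℤ))) := hff.1
  refine ⟨Module.finrank A (D.P.X (-(i : ℤ))), fun y => ?_⟩
  let K := (Spec (CommRingCat.of A)).residueField y
  let φ : A →+* K := residueHom y
  let P' := CohIII.bcCx φ D.P
  haveI : Module.Finite K (P'.X (-(i : ℤ))) := (finite_free_bcL φ D.P _ hff).1
  refine le_of_eq_of_le ((D.fibreHH hfl y i).finrank_eq) ?_
  refine le_of_eq_of_le (FlatCxLib.homologyQuotEquiv P' (-(i : ℤ) + 1) (-(i : ℤ)) (-(i : ℤ) - 1) rfl (by omega)).finrank_eq.symm ?_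
  refine ((Submodule.finrank_quotient_le _).trans (Submodule.finrank_le _)).trans ?_
  haveI : Nontrivial A := nontrivial_iff.2 ⟨0, 1, fun h => y.isPrime.ne_top
    ((Ideal.eq_top_iff_one _).2 (h ▸ y.asIdeal.zero_mem))⟩
  letI := φ.toAlgebra
  show Module.finrank K (TensorProduct A K (D.P.X (-(i : ℤ)))) ≤ _
  exact le_of_eq Module.finrank_baseChange

set_option maxHeartbeats 1600000 in
theorem fiberRank_triangle_affine {S : ShortComplex X.Modules} (hS : S.ShortExact) (h1 : Coh.IsCoh S.X₁)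
    (h2 : Coh.IsCoh S.X₂) (h3 : Coh.IsCoh S.X₃) (hfl : FlatMod.IsFlatOver (X ↘ Spec (CommRingCat.of A)) S.X₃)
    (y : ↥(Spec (CommRingCat.of A))) :
    (∀ i, CohIII.fiberRank (X ↘ Spec (CommRingCat.of A)) S.X₂ i y ≤
        CohIII.fiberRank (X ↘ Spec (CommRingCat.of A)) S.X₁ i y +
        CohIII.fiberRank (X ↘ Spec (CommRingCat.of A)) S.X₃ i y) ∧
    (CohIII.fiberRank (X ↘ Spec (CommRingCat.of A)) S.X₁ 0 y ≤
        CohIII.fiberRank (X ↘ Spec (CommRingCat.of A)) S.X₂ 0 y) ∧
    ∀ i, CohIII.fiberRank (X ↘ Spec (CommRingCat.of A)) S.X₁ (i + 1) y ≤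
        CohIII.fiberRank (X ↘ Spec (CommRingCat.of A)) S.X₂ (i + 1) y +
        CohIII.fiberRank (X ↘ Spec (CommRingCat.of A)) S.X₃ i y := by
  let π := X ↘ Spec (CommRingCat.of A)
  haveI := h1.1
  haveI := h2.1
  haveI := h3.1
  haveI : IsLocallyNoetherian X := LocallyOfFiniteType.isLocallyNoetherian π
  haveI : IsProper ((π.fiber y) ↘ Spec (CommRingCat.of ((Spec (CommRingCat.of A)).residueField y))) :=
    inferInstanceAs (IsProper (pullback.snd π _))
  have hS' := DQCoh.FlatAdm17.shortExact_pullback (residueHom y) (π.fiberι y) (PerfData.isPullback_fibre y) S hS hfl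
  have c1 := ZClosLib.isCoh_pullback (π.fiberι y) S.X₁ h1
  have c2 := ZClosLib.isCoh_pullback (π.fiberι y) S.X₂ h2
  have c3 := ZClosLib.isCoh_pullback (π.fiberι y) S.X₃ h3
  refine ⟨fun i => ?_, ?_, fun i => ?_⟩
  · have h := LESBound.hdim_mid ((Spec (CommRingCat.of A)).residueField y) _ hS' c1 c2 c3 i
    unfold LESBound.hdim at h
    exact h
  · have h := LESBound.hdim_left_zero ((Spec (CommRingCat.of A)).residueField y) _ hS' c1 c2 c3
    unfold LESBound.hdim at h
    exact h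
  · have h := LESBound.hdim_left_succ ((Spec (CommRingCat.of A)).residueField y) _ hS' c1 c2 c3 i
    unfold LESBound.hdim at h
    exact h

end affine

variable {X T : Scheme.{u}} (f : X ⟶ T) [IsProper f] [IsLocallyNoetherian T] {V : T.Opens} (hV : IsAffineOpen V)

theorem exists_chart_over (hV : IsAffineOpen V) :
    ∃ (P : Scheme.{u}) (_ : P.Over (Spec (CommRingCat.of Γ(T, V))))
      (_ : IsProper (P ↘ Spec (CommRingCat.of Γ(T, V)))) (b : P ⟶ X) (_ : IsOpenImmersion b),
      IsPullback b (P ↘ Spec (CommRingCat.of Γ(T, V))) f hV.fromSpec := by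
  let P := pullback f hV.fromSpec
  letI : P.Over (Spec (CommRingCat.of Γ(T, V))) := ⟨pullback.snd _ _⟩
  exact ⟨P, inferInstance, inferInstanceAs (IsProper (pullback.snd f hV.fromSpec)), pullback.fst _ _, inferInstance,
    IsPullback.of_hasPullback _ _⟩

theorem isFlatOver_chart {P W : Scheme.{u}} {b : P ⟶ X} {p : P ⟶ W} {c : W ⟶ T} (h : IsPullback b p f c)
    {G : X.Modules} (hfl : ∀ x, f x ∈ Set.range c → FlatMod.IsFlatOverAt f G x) :
    FlatMod.IsFlatOver p ((Scheme.Modules.pullback b).obj G) := fun x =>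
  Desc19b.isFlatOverAt_baseChange f p b c h G x (hfl (b x) ⟨p x, by
    rw [← Scheme.Hom.comp_apply, ← Scheme.Hom.comp_apply, h.w]⟩)

theorem exists_bound_on (hV : IsAffineOpen V) {G : X.Modules} (hG : Coh.IsCoh G)
    (hfl : ∀ x, f x ∈ V → FlatMod.IsFlatOverAt f G x) (i : ℕ) :
    ∃ C : ℕ, ∀ t ∈ V, CohIII.fiberRank f G i t ≤ C := by
  obtain ⟨P, _, hP, b, hb, hsq⟩ := exists_chart_over f hV
  haveI : IsNoetherianRing Γ(T, V) := IsLocallyNoetherian.component_noetherian ⟨V, hV⟩
  haveI : IsLocallyNoetherian P := LocallyOfFiniteType.isLocallyNoetherian (P ↘ Spec (CommRingCat.of Γ(T, V)))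
  haveI := hG.1
  obtain ⟨C, hC⟩ := exists_bound_affine (ZClosLib.isCoh_pullback b G hG)
    (isFlatOver_chart f hsq fun x hx => hfl x (by rwa [hV.range_fromSpec] at hx)) i
  refine ⟨C, fun t ht => ?_⟩
  obtain ⟨y, rfl⟩ : t ∈ Set.range hV.fromSpec := by rwa [hV.range_fromSpec]
  rw [← fiberRank_pullback hsq G i y]
  exact hC y

theorem fiberRank_triangle (hV : IsAffineOpen V) {S : ShortComplex X.Modules} (hS : S.ShortExact)
    (h1 : Coh.IsCoh S.X₁) (h2 : Coh.IsCoh S.X₂) (h3 : Coh.IsCoh S.X₃)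
    (hfl : ∀ x, f x ∈ V → FlatMod.IsFlatOverAt f S.X₃ x) {t : T} (ht : t ∈ V) :
    (∀ i, CohIII.fiberRank f S.X₂ i t ≤ CohIII.fiberRank f S.X₁ i t + CohIII.fiberRank f S.X₃ i t) ∧
    CohIII.fiberRank f S.X₁ 0 t ≤ CohIII.fiberRank f S.X₂ 0 t ∧
    ∀ i, CohIII.fiberRank f S.X₁ (i + 1) t ≤
      CohIII.fiberRank f S.X₂ (i + 1) t + CohIII.fiberRank f S.X₃ i t := by
  obtain ⟨P, _, hP, b, hb, hsq⟩ := exists_chart_over f hV
  haveI : IsNoetherianRing Γ(T, V) := IsLocallyNoetherian.component_noetherian ⟨V, hV⟩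
  haveI : IsLocallyNoetherian P := LocallyOfFiniteType.isLocallyNoetherian (P ↘ Spec (CommRingCat.of Γ(T, V)))
  haveI := h1.1
  haveI := h2.1
  haveI := h3.1
  obtain ⟨y, rfl⟩ : t ∈ Set.range hV.fromSpec := by rwa [hV.range_fromSpec]
  have hS' : (S.map (Scheme.Modules.pullback b)).ShortExact :=
    CycLib28.PB.Ops.shortExact_pullback b (hab := S.zero) hS
  have key := fiberRank_triangle_affine hS' (ZClosLib.isCoh_pullback b _ h1) (ZClosLib.isCoh_pullback b _ h2)
    (ZClosLib.isCoh_pullback b _ h3)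
    (isFlatOver_chart f hsq fun x hx => hfl x (by rwa [hV.range_fromSpec] at hx)) y
  simp only [← fiberRank_pullback hsq _ _ y]
  exact key

end Groth.Agent.Growth14.Fam
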