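import Groth.Agent.Growth14.Fam.Rank
import Groth.Agent.Coherent.SupportPullback
import Groth.Agent.CohExch.TwistBase
import Groth.Agent.S4698

/-!
# Growth of fibre cohomology of powers on a dense open of an integral base
-/

set_option autoImplicit false
set_option linter.all false
set_option backward.isDefEq.respectTransparency.types false

universe u

open CategoryTheory CategoryTheory.Limits AlgebraicGeometry Opposite TopologicalSpace
open Groth.Agent.Coherent Groth.Agent.PicLib Groth.Agent.AmpleLib Groth.Agent.H0Growth23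

noncomputable section

namespace Groth.Agent.Growth14.Fam

/-- A closed subset all of whose points have proper generizations in `V` has smaller dimension. -/
theorem dim_lt_of_generization (k : Type u) [Field k] {Z : Scheme.{u}} (p : Z ⟶ Spec (CommRingCat.of k))
    [LocallyOfFiniteType p] {V T : Set Z} (hV : IsClosed V) (hT : IsClosed T)
    (hgen : ∀ x ∈ T, ∃ a ∈ V, a ⤳ x ∧ a ≠ x) {d : ℕ}
    (hd : topologicalKrullDim V < ((d + 1 : ℕ) : WithBot ℕ∞)) : topologicalKrullDim T < (d : WithBot ℕ∞) := by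
  rw [DimLib.topologicalKrullDim_closed_eq_iSup p hV] at hd
  rw [DimLib.topologicalKrullDim_closed_eq_iSup p hT]
  have hb' : ∀ x : T, DimLib.ptDim p x.1 < d := by
    rintro ⟨x, hx⟩
    obtain ⟨a, ha, hax, hne⟩ := hgen x hx
    have h1 := DimLib.ptDim_lt_of_specializes p hax hne
    have h2 : DimLib.ptDim p a < d + 1 := by
      exact_mod_cast lt_of_le_of_lt (le_iSup (fun x : V => (DimLib.ptDim p x.1 : WithBot ℕ∞)) ⟨a, ha⟩) hd
    show DimLib.ptDim p x < d
    omega
  rcases d with _ | d
  · haveI : IsEmpty T := ⟨fun x => Nat.not_lt_zero _ (hb' x)⟩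
    rw [iSup_of_empty]
    exact WithBot.bot_lt_coe _
  · refine lt_of_le_of_lt (iSup_le fun x => ?_) (show ((d : ℕ) : WithBot ℕ∞) < ((d + 1 : ℕ) : WithBot ℕ∞) by
      exact_mod_cast Nat.lt_succ_self d)
    exact_mod_cast Nat.le_of_lt_succ (hb' x)

theorem isFlatOverAt_twist {X Y : Scheme.{u}} (f : X ⟶ Y) {L : X.Modules} (hL : PicF.IsInvertible L) (F : X.Modules) (x : X)
    (h : FlatMod.IsFlatOverAt f F x) : FlatMod.IsFlatOverAt f (CohB1.tensorMod F L) x := by
  obtain ⟨W, g, hmem, hg⟩ := exists_cover hL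
  let _ := (f.stalkMap x).hom.toAlgebra
  let _ := FlatMod.moduleStalkOver f F x
  let _ := FlatMod.moduleStalkOver f (CohB1.tensorMod F L) x
  have : IsScalarTower (Y.presheaf.stalk (f x)) (X.presheaf.stalk x) (F.presheaf.stalk x) :=
    IsScalarTower.of_compHom _ _ _
  have : IsScalarTower (Y.presheaf.stalk (f x)) (X.presheaf.stalk x)
      ((CohB1.tensorMod F L).presheaf.stalk x) := IsScalarTower.of_compHom _ _ _
  have hb := And.intro (EulerLib.twistStalk_injective (hmem x) (hg x) F)
    (EulerLib.twistStalk_surjective (hmem x) (hg x) F)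
  let e : F.presheaf.stalk x ≃ₗ[X.presheaf.stalk x] (CohB1.tensorMod F L).presheaf.stalk x :=
    LinearEquiv.ofBijective
      { toFun := EulerLib.twistStalk (g x) (hmem x) F
        map_add' := EulerLib.twistStalk_add (g x) (hmem x) F
        map_smul' := EulerLib.twistStalk_smul (g x) (hmem x) F } hb
  have : Module.Flat (Y.presheaf.stalk (f x)) (F.presheaf.stalk x) := h
  exact Module.Flat.of_linearEquiv (e.restrictScalars (Y.presheaf.stalk (f x))).symm

variable {X T : Scheme.{u}} (f : X ⟶ T) [IsProper f] [IsNoetherian T] [IsIntegral T]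

include f in
theorem isClosed_supp {G : X.Modules} (hG : Coh.IsCoh G) : IsClosed (CohB1.support G) :=
  haveI : IsLocallyNoetherian X := LocallyOfFiniteType.isLocallyNoetherian f
  isClosed_support G (locallyFinGen_of_isFT G hG.2)

/-- The dimension of the support in the generic fibre drops along a section generating at associated points. -/
theorem dim_generic_cokernel_lt {P : X.Modules} (hP : PicF.IsInvertible P) {G : X.Modules} (hG : Coh.IsCoh G)
    (b : Γ(P, (⊤ : X.Opens))) (hb : AssSch.Ass G ⊆ (glocus P b : Set X)) {d : ℕ}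
    (hd : topologicalKrullDim ((f.fiberι (genericPoint T)).base ⁻¹' CohB1.support G) < ((d + 1 : ℕ) : WithBot ℕ∞)) :
    topologicalKrullDim ((f.fiberι (genericPoint T)).base ⁻¹' CohB1.support (cokernel (EulerLib.mulSec G b))) <
      (d : WithBot ℕ∞) := by
  haveI : IsLocallyNoetherian X := LocallyOfFiniteType.isLocallyNoetherian f
  let η := genericPoint T
  let ι := f.fiberι η
  let p := f.fiberToSpecResidueField η
  haveI : LocallyOfFiniteType p := inferInstanceAs (LocallyOfFiniteType (pullback.snd f _))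
  let R : Set X := CohB1.support G ∩ (glocus P b : Set X)ᶜ
  have hR : IsClosed R := (isClosed_supp f hG).inter (glocus P b).2.isClosed_compl
  have hsub := Set.preimage_mono (f := ι.base) (support_cokernel_mulSec hP G b)
  refine lt_of_le_of_lt ((Topology.IsInducing.of_comp (continuous_inclusion hsub) continuous_subtype_val
      (g := (Subtype.val : ι.base ⁻¹' R → f.fiber η)) Topology.IsInducing.subtypeVal).topologicalKrullDim_le) ?_
  refine dim_lt_of_generization (T.residueField η) p ((isClosed_supp f hG).preimage ι.continuous)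
    (hR.preimage ι.continuous) ?_ hd
  rintro z ⟨hzG, hzg⟩
  obtain ⟨a, ha, haz⟩ := AssSch12.exists_ass_generalization G hG.1 hzG
  have hfa : f a = η := by
    refine ((genericPoint_specializes (f a)).antisymm ?_).eq.symm
    have h := haz.map f.continuous
    rwa [show f (ι z) = η from (f.fiberHomeo η z).2] at h
  obtain ⟨w, hw⟩ : a ∈ Set.range ι := by rw [Scheme.Hom.range_fiberι]; exact hfa
  subst hw
  refine ⟨w, AssSch12.mem_support_of_ass G ha, ι.isEmbedding.toIsInducing.specializes_iff.1 haz, ?_⟩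
  rintro rfl
  exact hzg (hb ha)

/-- Twists by powers. -/
abbrev tw (L G : X.Modules) (m : ℕ) : X.Modules := CohB1.tensorMod G (CohB1.tensorPow L m)

theorem exists_affine_flat {G : X.Modules} (hG : Coh.IsCoh G) (O : T.Opens) (hO : genericPoint T ∈ O) :
    ∃ V : T.Opens, IsAffineOpen V ∧ V ≤ O ∧ genericPoint T ∈ V ∧ ∀ x, f x ∈ V → FlatMod.IsFlatOverAt f G x := by
  obtain ⟨U, hU, hfl⟩ := Groth.Agent.S4698.result f G hG
  have hη : genericPoint T ∈ U := (genericPoint_spec T).mem_open_set_iff U.isOpen |>.2 (by simpa using hU)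
  obtain ⟨V, hV, hηV, hVle⟩ := exists_isAffineOpen_mem_and_subset (x := genericPoint T) (U := U ⊓ O) ⟨hη, hO⟩
  exact ⟨V, hV, fun x hx => (hVle hx).2, hηV, fun x hx => hfl x (hVle hx).1⟩

theorem fiberRank_congr {G G' : X.Modules} (e : G ≅ G') (i : ℕ) (t : T) :
    CohIII.fiberRank f G i t = CohIII.fiberRank f G' i t :=
  CohBC.finrank_HH_congr (T.residueField t) ((Scheme.Modules.pullback (f.fiberι t)).mapIso e) i

/-- Twisting a module with no support over `t` has no fibre cohomology. -/
theorem fiberRank_tw_eq_zero {L G : X.Modules} (hL : PicF.IsInvertible L) (hG : Coh.IsCoh G) {t : T}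
    (h : ∀ x, f x = t → x ∉ CohB1.support G) (i m : ℕ) : CohIII.fiberRank f (tw L G m) i t = 0 := by
  haveI : IsLocallyNoetherian X := LocallyOfFiniteType.isLocallyNoetherian f
  have hLm := isInvertible_tensorPow hL m
  have hc := EulerLib.isCoh_twist hLm hG
  have hz : IsZero (CohIII.fiberMod f (tw L G m) t) := EulerLib.isZero_of_support_eq_empty (by
    rw [show CohIII.fiberMod f (tw L G m) t = (Scheme.Modules.pullback (f.fiberι t)).obj (tw L G m) from rfl,
      support_pullback_qcoh (f.fiberι t) hc.1 hc.2, EulerLib.support_twist hLm G]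
    exact Set.eq_empty_iff_forall_notMem.2 fun z hz => h _ (f.fiberHomeo t z).2 hz)
  haveI : Subsingleton (CohIII.fiberH f (tw L G m) t i) := EulerLib.subsingleton_HH_of_isZero hz i
  exact Module.finrank_zero_of_subsingleton

theorem mk_congr {M N : X.Modules} (hM : PicF.IsInvertible M) (hN : PicF.IsInvertible N)
    (h : EulerLib.InvCl.mk M hM = EulerLib.InvCl.mk N hN) (G : X.Modules) :
    Nonempty (CohB1.tensorMod G M ≅ CohB1.tensorMod G N) := by
  obtain ⟨e₁⟩ := nonempty_twCl G M hM
  obtain ⟨e₂⟩ := nonempty_twCl G N hN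
  exact ⟨e₁.symm ≪≫ eqToIso (by rw [h]) ≪≫ e₂⟩

theorem bound_step (a D d m : ℕ) (ha : a ≤ D * (m + 1) ^ d) :
    D * m ^ (d + 1) + a ≤ D * (m + 1) ^ (d + 1) := by
  have h : m ^ (d + 1) + (m + 1) ^ d ≤ (m + 1) ^ (d + 1) := by
    rw [pow_succ', pow_succ' (m + 1), add_mul, one_mul]
    gcongr
    omega
  calc D * m ^ (d + 1) + a ≤ D * m ^ (d + 1) + D * (m + 1) ^ d := Nat.add_le_add_left ha _
    _ = D * (m ^ (d + 1) + (m + 1) ^ d) := by ring
    _ ≤ _ := Nat.mul_le_mul_left _ h

variable {A L : X.Modules}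

/-- On a dense open, fibre cohomology of `G ⊗ L^m` grows at most like the generic fibre dimension allows. -/
theorem exists_open_bound (hA : CohB1.IsAmple A) (hL : PicF.IsInvertible L) :
    ∀ (d : ℕ) (G : X.Modules), Coh.IsCoh G →
      topologicalKrullDim ((f.fiberι (genericPoint T)).base ⁻¹' CohB1.support G) < (d : WithBot ℕ∞) →
      ∀ i : ℕ, ∃ (U : T.Opens) (C : ℕ), genericPoint T ∈ U ∧ (d = 0 → C = 0) ∧
        ∀ t ∈ U, ∀ m : ℕ, 1 ≤ m → CohIII.fiberRank f (tw L G m) i t ≤ C * m ^ (d - 1) := by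
  haveI : IsLocallyNoetherian X := LocallyOfFiniteType.isLocallyNoetherian f
  haveI : CompactSpace X := QuasiCompact.compactSpace_of_compactSpace f
  intro d
  induction d with
  | zero =>
    intro G hG hd i
    have h0 : ∀ x, f x = genericPoint T → x ∉ CohB1.support G := by
      intro x hx hxG
      obtain ⟨z, rfl⟩ : x ∈ Set.range (f.fiberι (genericPoint T)) := by rw [Scheme.Hom.range_fiberι]; exact hx
      haveI : Nonempty ((f.fiberι (genericPoint T)).base ⁻¹' CohB1.support G) := ⟨⟨z, hxG⟩⟩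
      haveI : Nonempty (TopologicalSpace.IrreducibleCloseds ((f.fiberι (genericPoint T)).base ⁻¹' CohB1.support G)) :=
        ⟨⟨closure {(⟨z, hxG⟩ : (f.fiberι (genericPoint T)).base ⁻¹' CohB1.support G)}, isIrreducible_singleton.closure, isClosed_closure⟩⟩
      exact not_lt.2 (Order.krullDim_nonneg
        (α := TopologicalSpace.IrreducibleCloseds ((f.fiberι (genericPoint T)).base ⁻¹' CohB1.support G)))
        (by exact_mod_cast hd)
    refine ⟨⟨(f.base '' CohB1.support G)ᶜ, (f.isClosedMap _ (isClosed_supp f hG)).isOpen_compl⟩, 0, ?_, fun _ => rfl,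
      fun t ht m _ => ?_⟩
    · rintro ⟨x, hx, hxe⟩
      exact h0 x hxe hx
    · exact le_of_eq_of_le (fiberRank_tw_eq_zero f hL hG (fun x hx hxG => ht ⟨x, hxG, hx⟩) i m) (Nat.zero_le _)
  | succ d ih =>
    intro G hG hd i
    have hAss := AssSch12.finite_ass G hG
    obtain ⟨n₁, h₁⟩ := exists_twist_gen_of_finite hA hL (AssSch.Ass G) hAss
    obtain ⟨n₂, h₂⟩ := exists_twist_gen_of_finite hA (isInvertible_structureModule (X := X)) (AssSch.Ass G) hAss
    let s := n₁ + n₂
    obtain ⟨bP, hbP⟩ := h₁ s (Nat.le_add_right _ _)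
    obtain ⟨bQ, hbQ⟩ := h₂ s (Nat.le_add_left _ _)
    let Q := CohB1.tensorMod (Coh.structureModule X) (CohB1.tensorPow A s)
    let P := CohB1.tensorMod L (CohB1.tensorPow A s)
    have hAs := isInvertible_tensorPow hA.1 s
    have hQ : PicF.IsInvertible Q := isInvertible_tensorMod isInvertible_structureModule hAs
    have hP : PicF.IsInvertible P := isInvertible_tensorMod hL hAs
    haveI := Mumford23.mono_mulSec hG.1 bP hbP
    haveI := Mumford23.mono_mulSec hG.1 bQ hbQ
    let CP := cokernel (EulerLib.mulSec G bP)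
    let CQ := cokernel (EulerLib.mulSec G bQ)
    have hCP : Coh.IsCoh CP := isCoh_cokernel _ hG.1 (EulerLib.isCoh_twist hP hG)
    have hCQ : Coh.IsCoh CQ := isCoh_cokernel _ hG.1 (EulerLib.isCoh_twist hQ hG)
    have hdP := dim_generic_cokernel_lt f hP hG bP hbP hd
    have hdQ := dim_generic_cokernel_lt f hQ hG bQ hbQ hd
    obtain ⟨U₁, α, hη₁, hα0, hα⟩ := ih CP hCP hdP i
    obtain ⟨U₂, γ, hη₂, hγ0, hγ⟩ := ih CQ hCQ hdQ (i - 1)
    obtain ⟨V₁, -, hV₁, hηV₁, hfl₁⟩ := exists_affine_flat f hCP (U₁ ⊓ U₂) ⟨hη₁, hη₂⟩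
    obtain ⟨V₂, -, hV₂, hηV₂, hfl₂⟩ := exists_affine_flat f hCQ V₁ hηV₁
    obtain ⟨V, hV, hV₃, hηV, hfl⟩ := exists_affine_flat f hG V₂ hηV₂
    have hflP : ∀ (m : ℕ) x, f x ∈ V → FlatMod.IsFlatOverAt f (tw L CP m) x := fun m x hx =>
      isFlatOverAt_twist f (isInvertible_tensorPow hL m) CP x (hfl₁ x (hV₂ (hV₃ hx)))
    have hflQ : ∀ (m : ℕ) x, f x ∈ V → FlatMod.IsFlatOverAt f (tw L CQ m) x := fun m x hx =>
      isFlatOverAt_twist f (isInvertible_tensorPow hL m) CQ x (hfl₂ x (hV₃ hx))
    have hflG : ∀ (m : ℕ) x, f x ∈ V → FlatMod.IsFlatOverAt f (tw L G m) x := fun m x hx =>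
      isFlatOverAt_twist f (isInvertible_tensorPow hL m) G x (hfl x hx)
    obtain ⟨C₁, hC₁⟩ := exists_bound_on f hV (EulerLib.isCoh_twist (isInvertible_tensorPow hL 1) hG) (hflG 1) i
    refine ⟨V, C₁ + α + γ, hηV, fun h => absurd h (Nat.succ_ne_zero d), fun t ht m hm => ?_⟩
    have hSP : (ShortComplex.mk (EulerLib.mulSec G bP) (cokernel.π _) (cokernel.condition _)).ShortExact :=
      { exact := ShortComplex.exact_cokernel _ }
    have hSQ : (ShortComplex.mk (EulerLib.mulSec G bQ) (cokernel.π _) (cokernel.condition _)).ShortExact :=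
      { exact := ShortComplex.exact_cokernel _ }
    have hrec : ∀ n, 1 ≤ n → CohIII.fiberRank f (tw L G (n + 1)) i t ≤
        CohIII.fiberRank f (tw L G n) i t + (α + γ) * (n + 1) ^ (d - 1) := by
      intro n hn
      have hn0 := isInvertible_tensorPow hL n
      have hn1 := isInvertible_tensorPow hL (n + 1)
      have tP := fiberRank_triangle f hV (EulerLib.twistSeq_shortExact hn0 hSP) (EulerLib.isCoh_twist hn0 hG)
        (EulerLib.isCoh_twist hn0 (EulerLib.isCoh_twist hP hG)) (EulerLib.isCoh_twist hn0 hCP) (hflP n) ht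
      have tQ := fiberRank_triangle f hV (EulerLib.twistSeq_shortExact hn1 hSQ) (EulerLib.isCoh_twist hn1 hG)
        (EulerLib.isCoh_twist hn1 (EulerLib.isCoh_twist hQ hG)) (EulerLib.isCoh_twist hn1 hCQ) (hflQ (n + 1)) ht
      have hmid : CohIII.fiberRank f (CohB1.tensorMod (CohB1.tensorMod G Q) (CohB1.tensorPow L (n + 1))) i t =
          CohIII.fiberRank f (CohB1.tensorMod (CohB1.tensorMod G P) (CohB1.tensorPow L n)) i t := by
        obtain ⟨e₁⟩ := EulerLib.exists_assocIso' G hQ hn1
        obtain ⟨e₂⟩ := EulerLib.exists_assocIso' G hP hn0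
        obtain ⟨e₃⟩ := mk_congr (isInvertible_tensorMod hQ hn1) (isInvertible_tensorMod hP hn0) (by
          rw [← EulerLib.InvCl.mk_mul hQ hn1, ← EulerLib.InvCl.mk_mul hP hn0,
            ← EulerLib.InvCl.mk_mul isInvertible_structureModule hAs, ← EulerLib.InvCl.mk_mul hL hAs,
            show EulerLib.InvCl.mk (CohB1.tensorPow L (n + 1)) hn1 =
              EulerLib.InvCl.mk (CohB1.tensorPow L n) hn0 * EulerLib.InvCl.mk L hL from
              (EulerLib.InvCl.mk_mul hn0 hL).symm,
            show EulerLib.InvCl.mk (Coh.structureModule X) isInvertible_structureModule = 1 from rfl, one_mul]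
          ac_rfl) G
        exact fiberRank_congr f (e₁ ≪≫ e₃ ≪≫ e₂.symm) i t
      have hP' : CohIII.fiberRank f (CohB1.tensorMod (CohB1.tensorMod G P) (CohB1.tensorPow L n)) i t ≤
          CohIII.fiberRank f (tw L G n) i t + α * n ^ (d - 1) :=
        (tP.1 i).trans (Nat.add_le_add_left (hα t (hV₁ (hV₂ (hV₃ ht))).1 n hn) _)
      have hQ' : CohIII.fiberRank f (tw L G (n + 1)) i t ≤
          CohIII.fiberRank f (CohB1.tensorMod (CohB1.tensorMod G Q) (CohB1.tensorPow L (n + 1))) i t +
            γ * (n + 1) ^ (d - 1) := by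
        rcases i with _ | i
        · exact tQ.2.1.trans (Nat.le_add_right _ _)
        · exact (tQ.2.2 i).trans (Nat.add_le_add_left (hγ t (hV₁ (hV₂ (hV₃ ht))).2 (n + 1) (by omega)) _)
      have hle : α * n ^ (d - 1) ≤ α * (n + 1) ^ (d - 1) :=
        Nat.mul_le_mul_left _ (Nat.pow_le_pow_left (Nat.le_succ n) _)
      rw [hmid] at hQ'
      rw [add_mul]
      omega
    rcases Nat.eq_zero_or_pos d with hd0 | hdpos
    · -- no room for growth
      have hα00 := hα0 hd0
      have hγ00 := hγ0 hd0
      subst hd0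
      induction m, hm using Nat.le_induction with
      | base => simpa using (hC₁ t ht).trans (by omega)
      | succ n hn ihn =>
        have h := hrec n hn
        simp only [Nat.zero_sub, pow_zero, mul_one, Nat.add_one_sub_one, hα00, hγ00, add_zero] at h ihn ⊢
        omega
    obtain ⟨e, rfl⟩ : ∃ e, d = e + 1 := ⟨d - 1, by omega⟩
    induction m, hm using Nat.le_induction with
    | base => simpa using (hC₁ t ht).trans (by omega)
    | succ n hn ihn =>
      refine (hrec n hn).trans ?_
      simp only [Nat.add_one_sub_one] at ihn ⊢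
      refine le_trans (Nat.add_le_add_right ihn _) (bound_step _ _ e n ?_)
      exact Nat.mul_le_mul_right _ (by omega)

end Groth.Agent.Growth14.Fam
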